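import Groth.Agent.AlgSpLib.FormallyChart
import Groth.Agent.CAlgH.ApproximationPair
import Mathlib

/-!
# Morphisms from a closed subscheme to a smooth scheme extend to an étale neighbourhood
-/

set_option autoImplicit false
set_option backward.isDefEq.respectTransparency false
set_option backward.isDefEq.respectTransparency.types false
set_option linter.style.haveILetI false

universe u

open CategoryTheory CategoryTheory.Limits AlgebraicGeometry TopologicalSpace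
open scoped TensorProduct

namespace Groth.Agent.SectLift8

/-- The ring form: a map from a smooth `A`-algebra to a quotient of `C` lifts to an étale neighbourhood. -/
theorem exists_ring_lift {A B C C₀ : CommRingCat.{u}} (α : A ⟶ C) (β : A ⟶ B) (hβ : β.hom.Smooth)
    (q : C ⟶ C₀) (hq : Function.Surjective q.hom) (φ : B ⟶ C₀) (hφ : β ≫ φ = α ≫ q) :
    ∃ (C' C₁ : CommRingCat.{u}) (ι : C ⟶ C') (ψ : B ⟶ C') (q' : C' ⟶ C₁) (ι₀ : C₀ ⟶ C₁),
      ι.hom.Etale ∧ α ≫ ι = β ≫ ψ ∧ IsIso ι₀ ∧ CategoryTheory.IsPushout ι q q' ι₀ ∧ ψ ≫ q' = φ ≫ ι₀ := by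
  letI := α.hom.toAlgebra
  letI := β.hom.toAlgebra
  haveI : Algebra.Smooth A B := hβ
  let J : Ideal C := RingHom.ker q.hom
  let e : (C ⧸ J) ≃+* C₀ := RingHom.quotientKerEquivOfSurjective hq
  have he : ∀ c, e (Ideal.Quotient.mk J c) = q.hom c := fun c =>
    RingHom.quotientKerEquivOfSurjective_apply_mk hq c
  letI : Algebra A (C ⧸ J ^ (0 + 1)) := inferInstance
  have hJ : J ^ (0 + 1) = J := pow_one J
  let e' : (C ⧸ J ^ (0 + 1)) ≃+* C₀ := (Ideal.quotEquivOfEq hJ).trans e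
  have he' : ∀ c, e' (Ideal.Quotient.mk _ c) = q.hom c := fun c => by
    show e (Ideal.quotEquivOfEq hJ (Ideal.Quotient.mk _ c)) = _
    rw [Ideal.quotEquivOfEq_mk, he]
  let φA : B →ₐ[A] C ⧸ J ^ (0 + 1) :=
    { (e'.symm.toRingHom).comp φ.hom with
      commutes' := fun a => e'.symm_apply_eq.2 ((he' (α.hom a)).trans (congr($(hφ) a)).symm).symm }
  let σ : (C ⊗[A] B) →ₐ[C] C ⧸ J ^ (0 + 1) :=
    Algebra.TensorProduct.lift (Algebra.ofId C _) φA fun _ _ => Commute.all _ _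
  obtain ⟨C', _, _, hC', hbij, ψ, hψ⟩ := CAlgH.ApproximationPair.exists_nbhd_of_smooth J 0 σ
  let K : Ideal C' := J.map (algebraMap C C')
  let θ : (C ⧸ J) ≃+* (C' ⧸ K) := RingEquiv.ofBijective _ hbij
  let ψB : B →+* C' := ψ.toRingHom.comp (Algebra.TensorProduct.includeRight (R := A) (A := C)).toRingHom
  refine ⟨CommRingCat.of C', CommRingCat.of (C' ⧸ K), CommRingCat.ofHom (algebraMap C C'), CommRingCat.ofHom ψB,
    CommRingCat.ofHom (Ideal.Quotient.mk K), (e.symm.trans θ).toCommRingCatIso.hom, ?_, ?_, inferInstance, ?_, ?_⟩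
  · exact RingHom.etale_algebraMap.2 hC'
  · ext a
    show algebraMap C C' (α.hom a) = ψ ((1 : C) ⊗ₜ[A] β.hom a)
    rw [show (1 : C) ⊗ₜ[A] β.hom a = algebraMap C (C ⊗[A] B) (α.hom a) from
      (congrArg ((1 : C) ⊗ₜ[A] ·) (Algebra.algebraMap_eq_smul_one a)).trans
        ((TensorProduct.tmul_smul _ _ _).trans ((TensorProduct.smul_tmul' _ _ _).trans
          (congrArg (· ⊗ₜ[A] (1 : B)) (Algebra.algebraMap_eq_smul_one a).symm))), AlgHom.commutes]
  · have h1 := AlgSpLib.isPushout_quotient (algebraMap C C') J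
    refine h1.of_iso (Iso.refl _) (Iso.refl _) e.toCommRingCatIso (Iso.refl _) (by simp) ?_ (by simp [K]) ?_
    · ext c
      simpa using he c
    · ext c
      show Ideal.quotientMap K (algebraMap C C') Ideal.le_comap_map (Ideal.Quotient.mk J c) = θ (e.symm (e (Ideal.Quotient.mk J c)))
      rw [e.symm_apply_apply]
      rfl
  · ext b
    obtain ⟨c, hc⟩ := Ideal.Quotient.mk_surjective (σ (1 ⊗ₜ b))
    have h1 := hψ (1 ⊗ₜ b) c hc.symm
    show Ideal.Quotient.mk K (ψ (1 ⊗ₜ b)) = θ (e.symm (φ.hom b))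
    have h2 : e.symm (φ.hom b) = Ideal.Quotient.mk J c := by
      rw [e.symm_apply_eq, he, ← he', hc]
      simp [σ, φA]
    rw [h2]
    refine (Ideal.Quotient.eq.2 ?_ : Ideal.Quotient.mk K (ψ (1 ⊗ₜ b)) = Ideal.Quotient.mk K (algebraMap C C' c))
    simpa [K, hJ] using h1

theorem exists_lift {S S₀ X Y : Scheme.{u}} (i : S₀ ⟶ S) [IsClosedImmersion i] (p : X ⟶ S) (q : Y ⟶ S) [Smooth q]
    (f₀ : pullback p i ⟶ Y) (hf₀ : f₀ ≫ q = pullback.fst p i ≫ p) (x₀ : ↥(pullback p i)) :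
    ∃ (U : Scheme.{u}) (e : U ⟶ X) (f : U ⟶ Y), Etale e ∧ f ≫ q = e ≫ p ∧
      IsOpenImmersion (pullback.snd e (pullback.fst p i)) ∧
      x₀ ∈ Set.range (pullback.snd e (pullback.fst p i)).base ∧
      pullback.snd e (pullback.fst p i) ≫ f₀ = pullback.fst e (pullback.fst p i) ≫ f := by
  let j := pullback.fst p i
  haveI : IsClosedImmersion j := inferInstance
  obtain ⟨W, hW, V, hV, hxV, hVW, hss⟩ := Smooth.exists_isStandardSmooth q (f₀ x₀)
  have hsm : (q.appLE W V hVW).hom.Smooth := by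
    algebraize [(q.appLE W V hVW).hom]
    exact (inferInstance : Algebra.Smooth Γ(S, W) Γ(Y, V))
  obtain ⟨O', hO'⟩ : ∃ O' : X.Opens, j ⁻¹ᵁ O' = f₀ ⁻¹ᵁ V := by
    obtain ⟨t, ht, ht'⟩ := j.isClosedEmbedding.isInducing.isOpen_iff.1 (f₀ ⁻¹ᵁ V).2
    exact ⟨⟨t, ht⟩, Opens.ext ht'⟩
  have hx1 : j x₀ ∈ O' := by
    show x₀ ∈ j ⁻¹ᵁ O'
    rw [hO']; exact hxV
  have hx2 : j x₀ ∈ p ⁻¹ᵁ W := by
    show p (j x₀) ∈ W
    rw [show p (j x₀) = q (f₀ x₀) from congr($(hf₀.symm) x₀)]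
    exact hVW hxV
  obtain ⟨O, hO, hxO, hle⟩ := exists_isAffineOpen_mem_and_subset (U := O' ⊓ p ⁻¹ᵁ W) ⟨hx1, hx2⟩
  have hOW : O ≤ p ⁻¹ᵁ W := hle.trans inf_le_right
  have hOV : j ⁻¹ᵁ O ≤ f₀ ⁻¹ᵁ V := hO' ▸ j.preimage_mono (hle.trans inf_le_left)
  have hO₀ : IsAffineOpen (j ⁻¹ᵁ O) := hO.preimage j
  obtain ⟨C', C₁, ι, ψ, q', ι₀, hι, hcomm, hiso, hpo, hψ⟩ :=
    exists_ring_lift (p.appLE W O hOW) (q.appLE W V hVW) hsm (j.app O)
      (j.app_surjective O hO) (f₀.appLE V (j ⁻¹ᵁ O) hOV) (by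
        rw [Scheme.Hom.appLE_comp_appLE, Scheme.Hom.app_eq_appLE, Scheme.Hom.appLE_comp_appLE]
        simp only [hf₀]; rfl)
  let e : Spec C' ⟶ X := Spec.map ι ≫ hO.fromSpec
  let g : Spec C₁ ⟶ pullback p i := Spec.map ι₀ ≫ hO₀.fromSpec
  have hP : IsPullback (Spec.map q') g e j := by
    have h1 : IsPullback (Spec.map q') (Spec.map ι₀) (Spec.map ι) (Spec.map (j.app O)) :=
      isPullback_SpecMap_of_isPushout _ _ _ _ hpo
    have h2 : IsPullback (Spec.map (j.app O)) hO₀.fromSpec hO.fromSpec j := by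
      refine IsOpenImmersion.isPullback _ _ _ _ ?_ ?_
      · rw [Scheme.Hom.app_eq_appLE, IsAffineOpen.SpecMap_appLE_fromSpec]
      · rw [hO.opensRange_fromSpec, hO₀.opensRange_fromSpec]
    exact h1.paste_vert h2
  have hsnd : pullback.snd e j = hP.isoPullback.inv ≫ g := (hP.isoPullback_inv_snd).symm
  refine ⟨Spec C', e, Spec.map ψ ≫ hV.fromSpec, ?_, ?_, ?_, ?_, ?_⟩
  · haveI : Etale (Spec.map ι) := (HasRingHomProperty.Spec_iff (P := @Etale)).2 hι
    infer_instance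
  · rw [Category.assoc, ← IsAffineOpen.SpecMap_appLE_fromSpec q hW hV hVW, ← Spec.map_comp_assoc, ← hcomm,
      Spec.map_comp_assoc, IsAffineOpen.SpecMap_appLE_fromSpec p hW hO hOW, Category.assoc]
  · rw [hsnd]; infer_instance
  · rw [hsnd]
    have hr : Set.range g.base = (j ⁻¹ᵁ O : Set _) := by
      haveI : Surjective (Spec.map ι₀) := inferInstance
      rw [Scheme.Hom.comp_base, TopCat.coe_comp, Set.range_comp, (Spec.map ι₀).surjective.range_eq, Set.image_univ,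
        hO₀.range_fromSpec]
    obtain ⟨z, hz⟩ := hr.ge (show x₀ ∈ (j ⁻¹ᵁ O : Set _) from hxO)
    refine ⟨hP.isoPullback.hom z, Eq.trans ?_ hz⟩
    show (hP.isoPullback.hom ≫ hP.isoPullback.inv ≫ g) z = g z
    rw [Iso.hom_inv_id_assoc]
  · rw [hsnd, ← hP.isoPullback_inv_fst, Category.assoc, Category.assoc, Category.assoc,
      ← IsAffineOpen.SpecMap_appLE_fromSpec f₀ hV hO₀ hOV, ← Spec.map_comp_assoc, ← Spec.map_comp_assoc, hψ]

end Groth.Agent.SectLift8
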